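import Cfsg.Agent.Lib.KGroups.AbelianTwo.Basic
import Cfsg.Agent.Lib.PGroup.FusionSp
import Cfsg.Agent.Lib.KGroups.TwoRankThree.Unitary

/-!
# Linear, symplectic and unitary groups in characteristic two

Two involutions whose product squares to a noncentral involution.
-/

set_option autoImplicit false
set_option linter.unusedSectionVars false
set_option linter.unusedSimpArgs false
set_option linter.style.haveILetI false

namespace CfsgLib.KGroups.AbelianTwo

universe u v

open Matrix

/-- Witnesses in a central quotient. -/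
theorem false_central {A : Type u} [Group A] (h : AbTwo (A ⧸ Subgroup.center A)) {x y w : A}
    (hx : x * x = 1) (hy : y * y = 1) (h4 : (x * y) ^ 4 = 1)
    (hne : x * y * (x * y) * w ≠ w * (x * y * (x * y))) : False := by
  have hx' : x⁻¹ = x := inv_eq_of_mul_eq_one_right hx
  have hy' : y⁻¹ = y := inv_eq_of_mul_eq_one_right hy
  refine false_of_witness h (QuotientGroup.mk' _) 2 (u := x) (v := y) (by rw [hx, map_one])
    (by rw [hy, map_one]) (by rw [show (2 : ℕ) ^ 2 = 4 from rfl, h4, map_one]) fun e => hne ?_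
  have hm : (y * x)⁻¹ * (x * y) ∈ Subgroup.center A := QuotientGroup.eq.1 e.symm
  rw [_root_.mul_inv_rev, hx', hy'] at hm
  exact ((Subgroup.mem_center_iff.1 hm) w).symm

/-- Witnesses in a subgroup of the covering group. -/
theorem false_central_map {A : Type u} [Group A] {B : Type v} [Group B]
    (h : AbTwo (A ⧸ Subgroup.center A)) (f : B →* A) (hf : Function.Injective f) {x y w : B}
    (hx : x * x = 1) (hy : y * y = 1) (h4 : (x * y) ^ 4 = 1)
    (hne : x * y * (x * y) * w ≠ w * (x * y * (x * y))) : False :=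
  false_central h (x := f x) (y := f y) (w := f w) (by rw [← map_mul, hx, map_one])
    (by rw [← map_mul, hy, map_one]) (by rw [← map_mul, ← map_pow, h4, map_one])
    (fun e => hne (hf (by simpa only [map_mul] using e)))

variable {F : Type u} [Field F] [Fintype F] [CharP F 2]

section Linear

theorem not_psl {n : ℕ} (hn : 3 ≤ n)
    (h : AbTwo (Matrix.ProjectiveSpecialLinearGroup (Fin n) F)) : False := by
  let a : Fin n := ⟨0, by omega⟩
  let b : Fin n := ⟨1, by omega⟩
  let c : Fin n := ⟨2, by omega⟩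
  have hab : a ≠ b := by simp [a, b]
  have hbc : b ≠ c := by simp [b, c]
  have hac : a ≠ c := by simp [a, c]
  let T : ∀ {i j : Fin n}, i ≠ j → Matrix.SpecialLinearGroup (Fin n) F :=
    fun {i j} hij => Matrix.SpecialLinearGroup.transvection hij 1
  have hsq : ∀ {i j : Fin n} (hij : i ≠ j), T hij * T hij = 1 := fun {i j} hij => by
    simp only [T]
    rw [← Matrix.SpecialLinearGroup.transvection_add, CharTwo.add_self_eq_zero,
      Matrix.SpecialLinearGroup.transvection_coeff_zero]
  have h2 : T hab * T hbc * (T hab * T hbc) = T hac := by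
    refine Subtype.ext ?_
    simp only [T, Matrix.SpecialLinearGroup.coe_mul, Matrix.SpecialLinearGroup.transvection_coe,
      Matrix.transvection, Matrix.add_mul, Matrix.mul_add, Matrix.one_mul, Matrix.mul_one,
      Matrix.single_mul_single_same, Matrix.single_mul_single_of_ne, hab, hbc, hac, hab.symm,
      hbc.symm, hac.symm, ne_eq, not_false_eq_true, zero_add, add_zero, mul_one, Matrix.zero_mul,
      Matrix.mul_zero]
    ext i j
    simp [Matrix.add_apply]
    linear_combination ((single a b (1 : F)) i j + (single b c (1 : F)) i j + (single a c (1 : F)) i j) *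
      (CharTwo.two_eq_zero (R := F))
  refine false_central h (x := T hab) (y := T hbc) (w := T hbc.symm) (hsq hab) (hsq hbc) ?_ ?_
  · rw [show (4 : ℕ) = 2 * 2 from rfl, pow_mul, sq, sq, h2, hsq]
  · rw [h2]
    intro e
    have h1 := congrArg (fun g : Matrix.SpecialLinearGroup (Fin n) F => (g : Matrix (Fin n) (Fin n) F) a b) e
    simp only [T, Matrix.SpecialLinearGroup.coe_mul, Matrix.SpecialLinearGroup.transvection_coe,
      Matrix.transvection, Matrix.add_mul, Matrix.mul_add, Matrix.one_mul, Matrix.mul_one] at h1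
    simp [Matrix.add_apply, hab, hbc, hac, hab.symm, hbc.symm, hac.symm] at h1

end Linear

section Symplectic

open CfsgLib.PGroup

theorem not_psp {m : ℕ} (hm : 2 ≤ m) (h : AbTwo (Cfsg.PSp m F)) : False := by
  let a : Fin m := ⟨0, by omega⟩
  let b : Fin m := ⟨1, by omega⟩
  have hab : a ≠ b := by simp [a, b]
  set N : GL (Fin m) F := Matrix.SpecialLinearGroup.toGL (Matrix.SpecialLinearGroup.transvection hab 1)
  have hN : N * N = 1 := by
    rw [← map_mul, ← Matrix.SpecialLinearGroup.transvection_add, CharTwo.add_self_eq_zero,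
      Matrix.SpecialLinearGroup.transvection_coeff_zero, map_one]
  have hss : ∀ (S : Matrix (Fin m) (Fin m) F) (hS : Sᵀ = S), BorelSp.sy S hS * BorelSp.sy S hS = 1 := by
    intro S hS
    rw [BorelSp.sy_mul, BorelSp.sy_congr (show S + S = 0 from
      Matrix.ext fun i j => CharTwo.add_self_eq_zero (S i j)) _ (Matrix.transpose_zero)]
    exact Subtype.ext Matrix.fromBlocks_one
  set x := BorelSp.lev N with hxdef
  set y := BorelSp.sy (single b b (1 : F)) (BorelSp.sym_single b 1) with hydef
  have hx : x * x = 1 := by rw [hxdef, ← map_mul, hN, map_one]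
  have hc : ∃ (D : Matrix (Fin m) (Fin m) F) (hD : Dᵀ = D),
      x * y * (x * y) = BorelSp.sy D hD ∧ D a a = 1 := by
    refine ⟨single b b (1 : F) + N.1 * single b b 1 * N.1ᵀ,
      by simp [Matrix.transpose_mul, Matrix.mul_assoc], ?_, ?_⟩
    · rw [show x * y * (x * y) = x * y * x⁻¹ * y by
        rw [inv_eq_of_mul_eq_one_right hx, ← mul_assoc]]
      rw [hxdef, hydef, BorelSp.lev_conj_sy, BorelSp.sy_mul]
    · simp [N, Matrix.transvection, Matrix.SpecialLinearGroup.transvection_coe, hab, hab.symm,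
        Matrix.add_mul, Matrix.mul_add]
  obtain ⟨D, hD, e, hDa⟩ := hc
  refine false_central h (x := x) (y := y)
    (w := BorelSp.syl (single a a (1 : F)) (BorelSp.sym_single a 1)) hx (hss _ _) ?_ ?_
  · rw [show (4 : ℕ) = 2 * 2 from rfl, pow_mul, sq, sq, e, hss]
  · rw [e]
    intro e'
    have h1 := congrFun (congrFun (BorelSp.commute_sy (Eq.symm e')).1 a) a
    simp [BorelSp.syl, BorelSp.b21, hDa] at h1

end Symplectic

section Unitary

open TwoRankThree

variable {n q : ℕ}

theorem permMatrix_sign (σ : Equiv.Perm (Fin n)) : (σ.permMatrix F).det = 1 := by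
  rw [Matrix.det_permutation]
  rcases Int.units_eq_one_or (Equiv.Perm.sign σ) with e | e <;> rw [e] <;> simp [CharTwo.neg_eq]

theorem permMatrix_mem (hF : Fintype.card F = q ^ 2) (σ : Equiv.Perm (Fin n)) :
    (⟨σ.permMatrix F, permMatrix_sign σ⟩ : Matrix.SpecialLinearGroup (Fin n) F) ∈ Cfsg.SU n F q := by
  refine mem_SU_of hF _ ?_
  have e : (σ.permMatrix F).map (fun x => x ^ q) = σ.permMatrix F := by
    ext i j
    simp only [Matrix.map_apply, Equiv.Perm.permMatrix, PEquiv.toMatrix_apply]
    split <;> simp [zero_pow (show q ≠ 0 by have := two_le_q hF; omega)]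
  show (σ.permMatrix F)ᵀ * (σ.permMatrix F).map (fun x => x ^ q) = 1
  rw [e, Matrix.transpose_permMatrix, ← Matrix.permMatrix_mul, mul_inv_cancel, Matrix.permMatrix_one]

theorem not_psu_four (hF : Fintype.card F = q ^ 2) (hn : 4 ≤ n) (h : AbTwo (Cfsg.PSU n F q)) :
    False := by
  let ι : Fin 4 ↪ Fin n := Fin.castLEEmb hn
  let f : Equiv.Perm (Fin 4) →* Cfsg.SU n F q :=
    { toFun := fun σ => ⟨⟨_, permMatrix_sign ((Equiv.Perm.viaEmbeddingHom ι σ)⁻¹)⟩, permMatrix_mem hF _⟩
      map_one' := by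
        refine Subtype.ext (Subtype.ext ?_)
        simp
      map_mul' := fun σ τ => by
        refine Subtype.ext (Subtype.ext ?_)
        simp only [map_mul, _root_.mul_inv_rev, Subgroup.coe_mul, Matrix.SpecialLinearGroup.coe_mul,
          Matrix.permMatrix_mul]
        rfl }
  have hf : Function.Injective f := by
    intro σ τ e
    refine Equiv.Perm.viaEmbeddingHom_injective ι (inv_injective (Equiv.ext fun i => ?_))
    have h1 := congrArg (fun g : Cfsg.SU n F q => ((g : Matrix.SpecialLinearGroup (Fin n) F) :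
      Matrix (Fin n) (Fin n) F) i ((Equiv.Perm.viaEmbeddingHom ι σ)⁻¹ i)) e
    simp [f, Equiv.Perm.permMatrix, PEquiv.toMatrix_apply] at h1
    exact h1.symm
  exact false_central_map h f hf (x := Equiv.swap 0 1) (y := Equiv.swap 0 2 * Equiv.swap 1 3)
    (w := Equiv.swap 1 2) (by decide) (by decide) (by decide) (by decide)

/-- An element of a Sylow 2-subgroup of `SU 3`. -/
def gMat (q : ℕ) (a c : F) : Matrix (Fin 3) (Fin 3) F :=
  !![1 + c, c, a ^ q; c, 1 + c, a ^ q; a, a, 1]

theorem gMat_det (a c : F) : (gMat q a c).det = 1 := by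
  rw [gMat, Matrix.det_fin_three]
  simp
  linear_combination (c - a * a ^ q) * CharTwo.two_eq_zero (R := F)

theorem gMat_mem (hF : Fintype.card F = q ^ 2) {a c : F} (hc : c + c ^ q = a * a ^ q) :
    (⟨gMat q a c, gMat_det a c⟩ : Matrix.SpecialLinearGroup (Fin 3) F) ∈ Cfsg.SU 3 F q := by
  refine mem_SU_of hF _ ?_
  show (gMat q a c)ᵀ * (gMat q a c).map (fun x => x ^ q) = 1
  have hq0 : q ≠ 0 := by have := two_le_q hF; omega
  have h2 := CharTwo.two_eq_zero (R := F)
  ext i j
  fin_cases i <;> fin_cases j <;>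
    simp [gMat, Matrix.mul_apply, Fin.sum_univ_three, pow_q_add hF, pow_q_q hF, zero_pow hq0] <;>
    grind

theorem gMat_mul (hF : Fintype.card F = q ^ 2) (a c a' c' : F) :
    gMat q a c * gMat q a' c' = gMat q (a + a') (c + c' + a ^ q * a') := by
  have h2 := CharTwo.two_eq_zero (R := F)
  ext i j
  fin_cases i <;> fin_cases j <;>
    simp [gMat, Matrix.mul_apply, Fin.sum_univ_three, pow_q_add hF] <;> grind

theorem not_psu_three (hF : Fintype.card F = q ^ 2) (h : AbTwo (Cfsg.PSU 3 F q)) : False := by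
  have hq := two_le_q hF
  have hq0 : q ≠ 0 := by omega
  obtain ⟨a, ha⟩ : ∃ a : F, a ^ q ≠ a := by
    by_contra hall
    push Not at hall
    classical
    have h1 : (Finset.univ : Finset F).card ≤
        (Polynomial.X ^ q - Polynomial.X : Polynomial F).natDegree := by
      refine le_trans ?_ (Polynomial.card_roots' _)
      refine le_trans ?_ (Multiset.toFinset_card_le _)
      refine Finset.card_le_card fun x _ => ?_
      rw [Multiset.mem_toFinset, Polynomial.mem_roots (FiniteField.X_pow_card_sub_X_ne_zero F hq)]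
      simp [hall x]
    rw [FiniteField.X_pow_card_sub_X_natDegree_eq F hq, Finset.card_univ, hF] at h1
    nlinarith
  have hd : a + a ^ q ≠ 0 := fun e => ha (CharTwo.add_eq_zero.1 e).symm
  set t : F := a / (a + a ^ q) with ht
  have ht1 : t + t ^ q = 1 := by
    rw [ht, div_pow, pow_q_add hF, pow_q_q hF, add_comm (a ^ q) a, ← add_div, div_self hd]
  have hnorm : (a * a ^ q) ^ q = a * a ^ q := by rw [mul_pow, pow_q_q hF, mul_comm]
  let mk : ∀ (x c : F), c + c ^ q = x * x ^ q → Cfsg.SU 3 F q :=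
    fun x c hc => ⟨⟨gMat q x c, gMat_det x c⟩, gMat_mem hF hc⟩
  have cx : t + t ^ q = 1 * 1 ^ q := by rw [ht1, one_pow, one_mul]
  have cy : a * a ^ q * t + (a * a ^ q * t) ^ q = a * a ^ q := by
    rw [mul_pow _ t, hnorm, ← mul_add, ht1, mul_one]
  have cz : a + a ^ q + (a + a ^ q) ^ q = 0 * 0 ^ q := by
    rw [pow_q_add hF, pow_q_q hF, zero_mul]; linear_combination (a + a ^ q) * CharTwo.two_eq_zero (R := F)
  set x := mk 1 t cx
  set y := mk a (a * a ^ q * t) cy
  set z := mk 0 (a + a ^ q) cz
  have ext' : ∀ {g g' : Cfsg.SU 3 F q},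
      ((g : Matrix.SpecialLinearGroup (Fin 3) F) : Matrix (Fin 3) (Fin 3) F) =
        ((g' : Matrix.SpecialLinearGroup (Fin 3) F) : Matrix (Fin 3) (Fin 3) F) → g = g' :=
    fun e => Subtype.ext (Subtype.ext e)
  have h4 : ∀ {u c : F} (hc : c + c ^ q = u * u ^ q), mk u c hc ^ 4 = 1 := by
    intro u c hc
    rw [show (4 : ℕ) = 2 * 2 from rfl, pow_mul, sq, sq]
    refine ext' ?_
    show gMat q u c * gMat q u c * (gMat q u c * gMat q u c) = 1
    rw [gMat_mul hF, gMat_mul hF]
    ext i j
    fin_cases i <;> fin_cases j <;> simp [gMat, CharTwo.add_self_eq_zero, zero_pow hq0]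
  have hcen : ∀ {u c : F} (hc : c + c ^ q = u * u ^ q), Commute z (mk u c hc) := fun {u c} hc => by
    refine ext' ?_
    show gMat q 0 (a + a ^ q) * gMat q u c = gMat q u c * gMat q 0 (a + a ^ q)
    rw [gMat_mul hF, gMat_mul hF, zero_pow hq0, zero_mul, mul_zero, zero_add, add_zero, add_zero,
      add_comm (a + a ^ q) c]
    simp
  have hyx : y * x * y⁻¹ = z * x := by
    rw [mul_inv_eq_iff_eq_mul]
    refine ext' ?_
    show gMat q a (a * a ^ q * t) * gMat q 1 t = gMat q 0 (a + a ^ q) * gMat q 1 t * gMat q a (a * a ^ q * t)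
    rw [gMat_mul hF, gMat_mul hF, gMat_mul hF, zero_pow hq0]
    simp only [zero_add, mul_one, one_pow, zero_mul]
    rw [add_comm a 1]
    congr 1
    simp
    linear_combination (-a) * CharTwo.two_eq_zero (R := F)
  let π := QuotientGroup.mk' (Subgroup.center (Cfsg.SU 3 F q))
  have hx4 : x ^ 4 = 1 := h4 cx
  have hy4 : y ^ 4 = 1 := h4 cy
  have hz4 : z ^ 4 = 1 := h4 cz
  have hz : π z = 1 := h.commutator_eq_one (i := 2) (j := 2) (k := 2) (x := π x) (y := π y) (c := π z)
    (by rw [← map_pow, show (2 : ℕ) ^ 2 = 4 from rfl, hx4, map_one])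
    (by rw [← map_pow, show (2 : ℕ) ^ 2 = 4 from rfl, hy4, map_one])
    (by rw [← map_pow, show (2 : ℕ) ^ 2 = 4 from rfl, hz4, map_one])
    ((hcen cx).map π) ((hcen cy).map π) (by rw [← map_inv, ← map_mul, ← map_mul, hyx, map_mul])
  obtain ⟨c, hc1, hc2, hc⟩ := exists_norm_one hF
  obtain ⟨tt, htt⟩ := exists_torus hF (show (0 : Fin 3) ≠ 1 by decide) c hc
  have e := congrArg (fun g : Cfsg.SU 3 F q =>
    ((g : Matrix.SpecialLinearGroup (Fin 3) F) : Matrix (Fin 3) (Fin 3) F) 0 1)
    (Subgroup.mem_center_iff.1 ((QuotientGroup.eq_one_iff _).1 hz) tt)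
  change (((tt : Matrix.SpecialLinearGroup (Fin 3) F) : Matrix (Fin 3) (Fin 3) F) * gMat q 0 (a + a ^ q)) 0 1 =
    (gMat q 0 (a + a ^ q) * ((tt : Matrix.SpecialLinearGroup (Fin 3) F) : Matrix (Fin 3) (Fin 3) F)) 0 1 at e
  rw [htt, Matrix.diagonal_mul, Matrix.mul_diagonal] at e
  simp [gMat] at e
  refine hc2 (Units.ext ?_)
  have e' : (c : F) = (c : F)⁻¹ := mul_left_cancel₀ hd (by linear_combination e)
  rw [Units.val_pow_eq_pow_val, Units.val_one, sq]
  nth_rewrite 2 [e']
  exact mul_inv_cancel₀ c.ne_zero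

theorem not_psu (hF : Fintype.card F = q ^ 2) (hn : 3 ≤ n) (h : AbTwo (Cfsg.PSU n F q)) : False := by
  rcases hn.eq_or_lt with rfl | hn
  · exact not_psu_three hF h
  · exact not_psu_four hF hn h

end Unitary

end CfsgLib.KGroups.AbelianTwo
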