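import Mathlib.GroupTheory.Sylow
import Mathlib.GroupTheory.QuotientGroup.Basic
import Mathlib.Tactic.Group
import Mathlib.Tactic.Ring

/-!
# Groups with abelian Sylow 2-subgroups

Two elements of a common 2-subgroup commute; so two involutions whose product has 2-power order commute.
-/

set_option autoImplicit false

namespace CfsgLib.KGroups.AbelianTwo

universe u v

/-- All Sylow 2-subgroups are abelian. -/
def AbTwo (G : Type u) [Group G] : Prop :=
  ∀ S : Sylow 2 G, IsMulCommutative ↥(S : Subgroup G)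

variable {G : Type u} [Group G]

theorem AbTwo.of_injective {A : Type v} [Group A] (h : AbTwo G) (f : A →* G)
    (hf : Function.Injective f) : AbTwo A := by
  intro S
  obtain ⟨T, hT⟩ := (S.2.map f).exists_le_sylow
  refine ⟨⟨fun a b => Subtype.ext (hf ?_)⟩⟩
  rw [Subgroup.coe_mul, Subgroup.coe_mul, map_mul, map_mul]
  exact congrArg Subtype.val
    ((h T).is_comm.comm ⟨f a, hT ⟨a, a.2, rfl⟩⟩ ⟨f b, hT ⟨b, b.2, rfl⟩⟩)

theorem AbTwo.of_equiv {A : Type v} [Group A] (h : AbTwo G) (e : A ≃* G) : AbTwo A :=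
  h.of_injective e.toMonoidHom e.injective

theorem AbTwo.subgroup (h : AbTwo G) (H : Subgroup G) : AbTwo ↥H :=
  h.of_injective H.subtype H.subtype_injective

theorem AbTwo.commute_of_mem (h : AbTwo G) {P : Subgroup G} (hP : IsPGroup 2 P) {a b : G}
    (ha : a ∈ P) (hb : b ∈ P) : Commute a b := by
  obtain ⟨T, hT⟩ := hP.exists_le_sylow
  exact congrArg Subtype.val ((h T).is_comm.comm ⟨a, hT ha⟩ ⟨b, hT hb⟩)

/-- The cyclic group of a 2-element is a 2-group. -/
theorem isPGroup_zpowers {a : G} {k : ℕ} (ha : a ^ 2 ^ k = 1) :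
    IsPGroup 2 (Subgroup.zpowers a) := by
  rintro ⟨x, ⟨i, rfl⟩⟩
  refine ⟨k, Subtype.ext ?_⟩
  show (a ^ i) ^ (2 ^ k) = 1
  rw [← zpow_natCast (a ^ i), ← zpow_mul, mul_comm, zpow_mul, zpow_natCast, ha, one_zpow]

/-- An element normalising the cyclic group of a 2-element. -/
theorem AbTwo.commute_of_conj (h : AbTwo G) {a b : G} {j k : ℕ} (ha : a ^ 2 ^ j = 1)
    (hb : b ^ 2 ^ k = 1) (hn : b * a * b⁻¹ ∈ Subgroup.zpowers a) (hn' : b⁻¹ * a * b ∈ Subgroup.zpowers a) :
    Commute a b := by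
  have hnorm : b ∈ Subgroup.normalizer (Subgroup.zpowers a : Set G) := by
    rw [Subgroup.mem_normalizer_iff]
    intro x
    constructor
    · rintro ⟨i, rfl⟩
      show b * a ^ i * b⁻¹ ∈ Subgroup.zpowers a
      rw [← conj_zpow]
      exact zpow_mem hn i
    · intro hx
      obtain ⟨i, hi⟩ := Subgroup.mem_zpowers_iff.1 hx
      have e : x = b⁻¹ * a ^ i * b⁻¹⁻¹ := by rw [hi]; group
      rw [e, ← conj_zpow, inv_inv]
      exact zpow_mem hn' i
  exact h.commute_of_mem
    (IsPGroup.to_sup_of_normal_right' (isPGroup_zpowers hb) (isPGroup_zpowers ha)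
      (Subgroup.zpowers_le.2 hnorm))
    (Subgroup.mem_sup_right (Subgroup.mem_zpowers a)) (Subgroup.mem_sup_left (Subgroup.mem_zpowers b))

/-- Two involutions with product of 2-power order commute. -/
theorem AbTwo.commute (h : AbTwo G) {u v : G} {k : ℕ} (hu : u * u = 1) (hv : v * v = 1)
    (huv : (u * v) ^ 2 ^ k = 1) : Commute u v := by
  have hu' : u⁻¹ = u := inv_eq_of_mul_eq_one_right hu
  have hv' : v⁻¹ = v := inv_eq_of_mul_eq_one_right hv
  have e1 : u * (u * v) * u⁻¹ = (u * v)⁻¹ := by rw [mul_inv_rev, hv', hu', ← mul_assoc u u v, hu, one_mul]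
  have e2 : u⁻¹ * (u * v) * u = (u * v)⁻¹ := by rw [mul_inv_rev, hv', hu', ← mul_assoc u u v, hu, one_mul]
  have hc : Commute (u * v) u := h.commute_of_conj (j := k) (k := 1) huv (by rw [pow_one, sq, hu])
    (e1 ▸ inv_mem (Subgroup.mem_zpowers _)) (e2 ▸ inv_mem (Subgroup.mem_zpowers _))
  show u * v = v * u
  have e3 := hc.eq
  rw [mul_assoc, ← mul_assoc u u v, hu, one_mul] at e3
  calc u * v = u * (u * v * u) := by rw [mul_assoc u v u, e3]
    _ = v * u := by rw [mul_assoc, ← mul_assoc u u (v * u), hu, one_mul]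

/-- Two involutions with product of order dividing `4`. -/
theorem AbTwo.commute_four (h : AbTwo G) {u v : G} (hu : u * u = 1) (hv : v * v = 1)
    (huv : (u * v) ^ 4 = 1) : Commute u v :=
  h.commute (k := 2) hu hv huv

/-- The product of two involutions has order not divisible by four. -/
theorem AbTwo.pow_eq_one (h : AbTwo G) {u v : G} {k m : ℕ} (hu : u * u = 1) (hv : v * v = 1)
    (huv : (u * v) ^ (2 ^ k * m) = 1) : (u * v) ^ (2 * m) = 1 := by
  have hu' : u⁻¹ = u := inv_eq_of_mul_eq_one_right hu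
  have hv' : v⁻¹ = v := inv_eq_of_mul_eq_one_right hv
  set w := (u * v) ^ m
  have hw : u * w * u⁻¹ = w⁻¹ := by
    rw [← conj_pow, ← inv_pow]
    congr 1
    rw [mul_inv_rev, hv', hu', ← mul_assoc u u v, hu, one_mul]
  have hinv : (u * w) * (u * w) = 1 := by
    rw [← mul_assoc, ← hu'] ; nth_rewrite 1 [hu'] ; rw [hw, inv_mul_cancel]
  have hc := h.commute (k := k) hu hinv
    (by rw [← mul_assoc, hu, one_mul, ← pow_mul, mul_comm m]; exact huv)
  have e : w * w = 1 := by
    have h1 : u * (u * w) = u * w * u := hc.eq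
    rw [← mul_assoc, hu, one_mul, ← hu'] at h1
    nth_rewrite 1 [hu'] at h1
    rw [hw] at h1
    nth_rewrite 1 [h1]
    exact inv_mul_cancel w
  rw [mul_comm, pow_mul, sq]
  exact e

/-- If two 2-elements have a commutator commuting with both, it is trivial. -/
theorem AbTwo.commutator_eq_one (h : AbTwo G) {x y c : G} {i j k : ℕ} (hx : x ^ 2 ^ i = 1)
    (hy : y ^ 2 ^ j = 1) (hc : c ^ 2 ^ k = 1) (hcx : Commute c x) (hcy : Commute c y)
    (hxy : y * x * y⁻¹ = c * x) : c = 1 := by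
  set A := Subgroup.zpowers x ⊔ Subgroup.zpowers c
  have hxA : x ∈ A := Subgroup.mem_sup_left (Subgroup.mem_zpowers x)
  have hcA : c ∈ A := Subgroup.mem_sup_right (Subgroup.mem_zpowers c)
  have hA : IsPGroup 2 A := by
    refine IsPGroup.to_sup_of_normal_right' (isPGroup_zpowers hx) (isPGroup_zpowers hc) ?_
    rw [Subgroup.zpowers_le, Subgroup.mem_normalizer_iff]
    intro g
    constructor
    · rintro ⟨n, rfl⟩
      refine ⟨n, ?_⟩
      show c ^ n = x * c ^ n * x⁻¹
      rw [(hcx.zpow_left n).symm.eq, mul_inv_cancel_right]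
    · rintro ⟨n, hn⟩
      refine ⟨n, ?_⟩
      have hn' : c ^ n = x * g * x⁻¹ := hn
      have e : g = x⁻¹ * c ^ n * x := by rw [hn']; group
      show c ^ n = g
      rw [e, mul_assoc, (hcx.zpow_left n).eq, inv_mul_cancel_left]
  have key : ∀ z : G, z * x * z⁻¹ ∈ A → z * c * z⁻¹ ∈ A → ∀ g ∈ A, z * g * z⁻¹ ∈ A := by
    intro z h1 h2 g hg
    have : A ≤ A.comap (MulAut.conj z).toMonoidHom :=
      sup_le (Subgroup.zpowers_le.2 h1) (Subgroup.zpowers_le.2 h2)
    exact this hg
  have hyc : y * c * y⁻¹ = c := by rw [← hcy.eq, mul_inv_cancel_right]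
  have hyc' : y⁻¹ * c * y⁻¹⁻¹ = c := by rw [inv_inv, mul_assoc, hcy.eq, inv_mul_cancel_left]
  have hyx' : y⁻¹ * x * y⁻¹⁻¹ = c⁻¹ * x := by
    have e : y⁻¹ * (c * x) * y = x := by rw [← hxy]; group
    have e2 : c * (y⁻¹ * x * y) = x := by
      rw [← mul_assoc, ← mul_assoc, (hcy.inv_right).eq]
      simpa [mul_assoc] using e
    rw [inv_inv, eq_inv_mul_iff_mul_eq]
    exact e2
  have hyn : y ∈ Subgroup.normalizer (A : Set G) := by
    rw [Subgroup.mem_normalizer_iff]
    intro g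
    refine ⟨key y (hxy ▸ mul_mem hcA hxA) (hyc.symm ▸ hcA) g, fun hg => ?_⟩
    have := key y⁻¹ (hyx' ▸ mul_mem (inv_mem hcA) hxA) (hyc'.symm ▸ hcA) _ hg
    simpa [mul_assoc] using this
  have hcom : Commute y x := h.commute_of_mem
    (IsPGroup.to_sup_of_normal_right' (isPGroup_zpowers hy) hA (Subgroup.zpowers_le.2 hyn))
    (Subgroup.mem_sup_left (Subgroup.mem_zpowers y)) (Subgroup.mem_sup_right hxA)
  rw [hcom.eq, mul_inv_cancel_right] at hxy
  exact mul_eq_right.1 hxy.symm

/-- The criterion for quotients. -/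
theorem false_of_witness {A : Type v} [Group A] (h : AbTwo G) (π : A →* G) {u v : A} (k : ℕ)
    (hu : π (u * u) = 1) (hv : π (v * v) = 1) (huv : π ((u * v) ^ 2 ^ k) = 1)
    (hne : π (u * v) ≠ π (v * u)) : False := by
  rw [map_mul] at hu hv
  rw [map_pow, map_mul] at huv
  rw [map_mul, map_mul] at hne
  exact hne (h.commute hu hv huv)

/-- A subgroup of an equivalent group. -/
theorem AbTwo.mk_witness {G' : Type v} [Group G'] (h : AbTwo G) (e : Nonempty (G ≃* G')) : AbTwo G' :=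
  e.elim fun e => h.of_equiv e.symm

end CfsgLib.KGroups.AbelianTwo
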