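import Cfsg.Agent.Lib.KGroups.SLTwoMultiplier
import Cfsg.Agent.Lib.Schur.Basic
import Cfsg.Agent.Lib.Schur.Bound
import Cfsg.Agent.Lib.Recognition.Zassenhaus.SL25
import Cfsg.Agent.Lib.Classical.Quat.Subfields
import Cfsg.Agent.S0494
import Cfsg.Prelude.Def_EvenType
import Mathlib.Algebra.Field.ZMod

/-!
# Central extensions of `L₂(2ⁿ)` by 2-groups
-/

set_option autoImplicit false
set_option maxRecDepth 20000

namespace CfsgLib.KGroups.AbelianTwo

open Matrix
open scoped MatrixGroups commutatorElement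

universe u

theorem sq_central_mul {K : Type u} [Group K] {z g : K} (hz : z * z = 1) (hc : z * g = g * z) :
    (z * g) * (z * g) = g * g := by
  rw [mul_assoc z g, ← mul_assoc g z g, ← hc, mul_assoc z g g, ← mul_assoc z z, hz, one_mul]

/-- Four-group in the alternating group of degree five. -/
def kleinA : alternatingGroup (Fin 5) :=
  ⟨Equiv.swap 0 1 * Equiv.swap 2 3, by rw [Equiv.Perm.mem_alternatingGroup]; decide⟩

/-- The second generator. -/
def kleinB : alternatingGroup (Fin 5) :=
  ⟨Equiv.swap 0 2 * Equiv.swap 1 3, by rw [Equiv.Perm.mem_alternatingGroup]; decide⟩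

theorem klein_rel : kleinA * kleinA = 1 ∧ kleinB * kleinB = 1 ∧ kleinA * kleinB = kleinB * kleinA ∧
    kleinA ≠ 1 ∧ kleinB ≠ 1 ∧ kleinA * kleinB ≠ 1 ∧ kleinA ≠ kleinB := by decide +kernel

theorem alt5_invol : ∀ x : alternatingGroup (Fin 5), x * x = 1 → x ≠ 1 →
    ∃ g : alternatingGroup (Fin 5), g * x * g⁻¹ = kleinA := by decide +kernel

/-- The four-group. -/
def klein : Subgroup (alternatingGroup (Fin 5)) where
  carrier := {x | x = 1 ∨ x = kleinA ∨ x = kleinB ∨ x = kleinA * kleinB}
  one_mem' := Or.inl rfl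
  mul_mem' {x y} hx hy := by
    have key : ∀ x y : alternatingGroup (Fin 5),
        (x = 1 ∨ x = kleinA ∨ x = kleinB ∨ x = kleinA * kleinB) →
        (y = 1 ∨ y = kleinA ∨ y = kleinB ∨ y = kleinA * kleinB) →
        (x * y = 1 ∨ x * y = kleinA ∨ x * y = kleinB ∨ x * y = kleinA * kleinB) := by
      rintro x y (rfl | rfl | rfl | rfl) (rfl | rfl | rfl | rfl) <;> decide +kernel
    exact key x y hx hy
  inv_mem' {x} hx := by
    rcases hx with rfl | rfl | rfl | rfl
    · exact Or.inl inv_one
    · exact Or.inr (Or.inl (by decide +kernel))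
    · exact Or.inr (Or.inr (Or.inl (by decide +kernel)))
    · exact Or.inr (Or.inr (Or.inr (by decide +kernel)))

theorem klein_index : klein.index = 15 := by
  have hc : Nat.card klein = 4 := by
    have e : (klein : Set (alternatingGroup (Fin 5))) =
        (({1, kleinA, kleinB, kleinA * kleinB} : Finset (alternatingGroup (Fin 5))) : Set _) := by
      ext x
      simp [klein]
    rw [← SetLike.coe_sort_coe, Nat.card_coe_set_eq, e, Set.ncard_coe_finset]
    decide +kernel
  have h := klein.card_mul_index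
  rw [hc, nat_card_alternatingGroup, Nat.card_fin, show Nat.factorial 5 / 2 = 60 from rfl] at h
  omega

/-- A perfect central extension of `A₅` by a nontrivial 2-group is `SL(2,5)`. -/
theorem equiv_sl25_of_alt5 {K : Type u} [Group K] [Finite K] (hperf : commutator K = ⊤)
    (hZ : IsPGroup 2 ↥(Subgroup.center K)) (hne : Subgroup.center K ≠ ⊥)
    (f : K →* alternatingGroup (Fin 5)) (hf : Function.Surjective f)
    (hker : f.ker = Subgroup.center K) : Nonempty (K ≃* SL(2, ZMod 5)) := by
  classical
  obtain ⟨hA2, hB2, hAB, hA1, hB1, hAB1, -⟩ := klein_rel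
  obtain ⟨A, hA⟩ := hf kleinA
  obtain ⟨B, hB⟩ := hf kleinB
  have hcen : ∀ x, f x = 1 → ∀ g, x * g = g * x := fun x hx g =>
    (Subgroup.mem_center_iff.1 (hker ▸ MonoidHom.mem_ker.2 hx) g).symm
  set d := ⁅A, B⁆ with hd
  have hfd : f d = 1 := by
    rw [hd, map_commutatorElement, hA, hB, commutatorElement_eq_one_iff_mul_comm.2 hAB]
  have hd2 : d * d = 1 := by
    have h1 : B * A = d⁻¹ * (A * B) := by rw [hd, commutatorElement_def]; group
    have hfAA : f (A * A) = 1 := by rw [map_mul, hA, hA2]
    have h2 : A * A * B = d * d * (B * (A * A)) := by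
      calc A * A * B = A * (d * (B * A)) := by rw [h1, mul_inv_cancel_left, mul_assoc]
        _ = d * (A * B) * A := by
          rw [← mul_assoc A d, ← hcen d hfd A, mul_assoc d A, mul_assoc d, mul_assoc A B A]
        _ = d * (d * (B * A)) * A := by rw [h1, mul_inv_cancel_left]
        _ = _ := by simp only [mul_assoc]
    rw [hcen _ hfAA B] at h2
    exact right_eq_mul.1 (by simpa [mul_assoc] using h2)
  -- the commutators of the preimage
  have hcl : ∀ z, f z = 1 → z ∈ (commutator (klein.comap f)).map (klein.comap f).subtype → z = 1 ∨ z = d := by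
    intro z _ hz
    let D : Subgroup K :=
      { carrier := {x | x = 1 ∨ x = d}
        one_mem' := Or.inl rfl
        mul_mem' := by rintro x y (rfl | rfl) (rfl | rfl) <;> simp [hd2]
        inv_mem' := by rintro x (rfl | rfl) <;> simp [inv_eq_of_mul_eq_one_right hd2] }
    have hDc : ∀ x ∈ D, ∀ g, x * g = g * x := by
      rintro x (rfl | rfl) g
      · simp
      · exact hcen d hfd g
    haveI hDn : D.Normal := ⟨fun x hx g => by rw [← hDc x hx g, mul_inv_cancel_right]; exact hx⟩
    have hle : (commutator (klein.comap f)).map (klein.comap f).subtype ≤ D := by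
      rw [_root_.commutator_def, Subgroup.map_commutator, ← MonoidHom.range_eq_map, Subgroup.range_subtype,
        Subgroup.commutator_le]
      intro x hx y hy
      let π := QuotientGroup.mk' D
      have hAB' : Commute (π A) (π B) :=
        commutatorElement_eq_one_iff_mul_comm.1 (by
          rw [← map_commutatorElement]; exact (QuotientGroup.eq_one_iff _).2 (Or.inr rfl))
      have hsurj : ∀ w ∈ klein.comap f, ∃ c : K, f c = 1 ∧ (w = c ∨ w = c * A ∨ w = c * B ∨ w = c * (A * B)) := by
        intro w hw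
        rcases Subgroup.mem_comap.1 hw with h | h | h | h
        · exact ⟨w, h, Or.inl rfl⟩
        · exact ⟨w * A⁻¹, by rw [map_mul, map_inv, h, hA, mul_inv_cancel], Or.inr (Or.inl (by group))⟩
        · exact ⟨w * B⁻¹, by rw [map_mul, map_inv, h, hB, mul_inv_cancel], Or.inr (Or.inr (Or.inl (by group)))⟩
        · exact ⟨w * (A * B)⁻¹, by rw [map_mul, map_inv, map_mul, h, hA, hB, mul_inv_cancel],
            Or.inr (Or.inr (Or.inr (by group)))⟩
      refine (QuotientGroup.eq_one_iff _).1 ?_
      show π ⁅x, y⁆ = 1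
      rw [map_commutatorElement, commutatorElement_eq_one_iff_mul_comm]
      have hgen : ∀ w ∈ klein.comap f, Commute (π w) (π A) ∧ Commute (π w) (π B) := by
        intro w hw
        obtain ⟨c, hc, hwc⟩ := hsurj w hw
        have c1 : Commute (π c) (π A) := Commute.map (hcen c hc A) π
        have c2 : Commute (π c) (π B) := Commute.map (hcen c hc B) π
        rcases hwc with rfl | rfl | rfl | rfl
        · exact ⟨c1, c2⟩
        · rw [map_mul]; exact ⟨c1.mul_left (Commute.refl _), c2.mul_left hAB'⟩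
        · rw [map_mul]; exact ⟨c1.mul_left hAB'.symm, c2.mul_left (Commute.refl _)⟩
        · rw [map_mul, map_mul]
          exact ⟨c1.mul_left ((Commute.refl _).mul_left hAB'.symm), c2.mul_left (hAB'.mul_left (Commute.refl _))⟩
      obtain ⟨cy, hcy, hyc⟩ := hsurj y hy
      have c0 : Commute (π x) (π cy) := (Commute.map (hcen cy hcy x) π).symm
      obtain ⟨g1, g2⟩ := hgen x hx
      rcases hyc with rfl | rfl | rfl | rfl
      · exact c0.eq
      · rw [map_mul]; exact (c0.mul_right g1).eq
      · rw [map_mul]; exact (c0.mul_right g2).eq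
      · rw [map_mul, map_mul]; exact (c0.mul_right (g1.mul_right g2)).eq
    exact hle hz
  have hz_cases : ∀ z, f z = 1 → z = 1 ∨ z = d := by
    intro z hz
    have hzc : z ∈ Subgroup.center K := hker ▸ MonoidHom.mem_ker.2 hz
    have hpow := CfsgLib.Schur.Bound.pow_index_mem f hf klein hzc (hperf ▸ Subgroup.mem_top z)
    rw [klein_index] at hpow
    obtain ⟨k, hk⟩ := hZ ⟨z, hzc⟩
    have hk' : z ^ 2 ^ k = 1 := congrArg Subtype.val hk
    have hz15 : z ^ 15 ∈ ({1, d} : Set K) := hcl _ (by rw [map_pow, hz, one_pow]) hpow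
    have hz30 : z ^ 30 = 1 := by
      rw [show 30 = 15 + 15 from rfl, pow_add]
      rcases hz15 with e | e <;> rw [e] <;> simp [hd2]
    have h2 : z ^ 2 = 1 := by
      have h1 := pow_gcd_eq_one.2 ⟨hk', hz30⟩
      have hdvd : Nat.gcd (2 ^ k) 30 ∣ 2 := by
        refine (Nat.Coprime.dvd_of_dvd_mul_right ?_ (show Nat.gcd (2 ^ k) 30 ∣ 2 * 15 from Nat.gcd_dvd_right _ 30))
        exact Nat.Coprime.coprime_dvd_left (Nat.gcd_dvd_left _ _) (Nat.Coprime.pow_left k (by norm_num))
      obtain ⟨j, hj⟩ := hdvd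
      rw [hj, pow_mul, h1, one_pow]
    rw [show z ^ 15 = z by rw [show 15 = 2 * 7 + 1 from rfl, pow_add, pow_mul, h2, one_pow, one_mul, pow_one]] at hz15
    exact hz15
  have hd1 : d ≠ 1 := by
    intro e
    refine hne ((Subgroup.eq_bot_iff_forall _).2 fun z hz => ?_)
    rcases hz_cases z (MonoidHom.mem_ker.1 (hker.symm ▸ hz)) with h | h
    · exact h
    · exact h.trans e
  have hconj : ∀ g, f g * f g = 1 → f g ≠ 1 → g * g = A * A := by
    intro g h1 h2
    obtain ⟨c, hc⟩ := alt5_invol (f g) h1 h2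
    obtain ⟨C, rfl⟩ := hf c
    have hk : f (C * g * C⁻¹ * A⁻¹) = 1 := by rw [map_mul, map_mul, map_mul, map_inv, map_inv, hc, hA, mul_inv_cancel]
    set k := C * g * C⁻¹ * A⁻¹ with hkdef
    have e : C * g * C⁻¹ = k * A := by rw [hkdef]; group
    have hkk : k * k = 1 := by rcases hz_cases k hk with h | h <;> simp [h, hd2]
    have e2 : C * (g * g) * C⁻¹ = A * A := by
      calc C * (g * g) * C⁻¹ = (C * g * C⁻¹) * (C * g * C⁻¹) := by group
        _ = _ := by rw [e, sq_central_mul hkk (hcen k hk A)]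
    have hfgg : f (g * g) = 1 := by rw [map_mul, h1]
    rw [← hcen _ hfgg C, mul_inv_cancel_right] at e2
    exact e2
  have hA_ne : A * A ≠ 1 := by
    intro e
    apply hd1
    have hBB : B * B = 1 := (hconj B (by rw [hB, hB2]) (by rw [hB]; exact hB1)).trans e
    have hABAB : A * B * (A * B) = 1 := by
      refine (hconj (A * B) ?_ ?_).trans e
      · rw [map_mul, hA, hB]
        rw [mul_assoc, ← mul_assoc kleinB, ← hAB, mul_assoc kleinA kleinB kleinB, hB2, mul_one, hA2]
      · rw [map_mul, hA, hB]; exact hAB1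
    rw [hd, commutatorElement_eq_one_iff_mul_comm]
    have e' : A * B = (A * B)⁻¹ := eq_inv_of_mul_eq_one_left hABAB
    rwa [_root_.mul_inv_rev, inv_eq_of_mul_eq_one_right e, inv_eq_of_mul_eq_one_right hBB] at e'
  have hker' : ∀ g, f g = 1 → g = 1 ∨ g = d := hz_cases
  have hinvol : ∀ g, g * g = 1 → g = 1 ∨ g = d := by
    intro g hg
    by_cases h : f g = 1
    · exact hz_cases g h
    · exact absurd ((hconj g (by rw [← map_mul, hg, map_one]) h).symm.trans hg) hA_ne
  set T := Subgroup.closure {g : K | g * (g * g) = 1} with hT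
  haveI hTn : T.Normal := by
    refine ⟨fun t ht g => ?_⟩
    have hle : T.map (MulAut.conj g).toMonoidHom ≤ T := by
      rw [hT, MonoidHom.map_closure, Subgroup.closure_le]
      rintro _ ⟨a, ha, rfl⟩
      refine Subgroup.subset_closure ?_
      show MulAut.conj g a * (MulAut.conj g a * MulAut.conj g a) = 1
      rw [← map_mul, ← map_mul, show a * (a * a) = 1 from ha, map_one]
    exact hle ⟨t, ht, rfl⟩
  have hTtop : T = ⊤ := by
    haveI : Fact (Nat.Prime 3) := ⟨Nat.prime_three⟩
    have h3 : 3 ∣ Nat.card K := by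
      refine dvd_trans ?_ (Subgroup.card_dvd_of_surjective f hf)
      rw [nat_card_alternatingGroup, Nat.card_fin]; decide
    obtain ⟨x, hx⟩ := exists_prime_orderOf_dvd_card' 3 h3
    have hxT : x ∈ T := Subgroup.subset_closure (show x * (x * x) = 1 by
      rw [← pow_two, ← pow_succ', show 2 + 1 = orderOf x by rw [hx], pow_orderOf_eq_one])
    haveI : IsSimpleGroup (alternatingGroup (Fin 5)) := alternatingGroup.isSimpleGroup (by simp)
    have htop : T.map f = ⊤ := by
      refine ((Subgroup.Normal.map hTn f hf).eq_bot_or_eq_top).resolve_left fun hb => ?_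
      have h1 : f x ∈ T.map f := Subgroup.mem_map_of_mem f hxT
      rw [hb, Subgroup.mem_bot] at h1
      rcases hz_cases x h1 with e | e
      · rw [e, orderOf_one] at hx; omega
      · have := orderOf_dvd_of_pow_eq_one (show x ^ 2 = 1 by rw [pow_two, e, hd2])
        rw [hx] at this; norm_num at this
    rw [eq_top_iff, ← hperf, _root_.commutator_def, Subgroup.commutator_le]
    intro a _ b _
    obtain ⟨t, ht, hta⟩ : f a ∈ T.map f := htop ▸ Subgroup.mem_top _
    obtain ⟨t', ht', htb⟩ : f b ∈ T.map f := htop ▸ Subgroup.mem_top _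
    have e1 : ∀ {a t : K}, f t = f a → ∀ g, (t⁻¹ * a) * g = g * (t⁻¹ * a) := fun h =>
      hcen _ (by rw [map_mul, map_inv, h, inv_mul_cancel])
    set ca := t⁻¹ * a with hca
    set cb := t'⁻¹ * b with hcb
    have ea : a = t * ca := by rw [hca]; group
    have eb : b = t' * cb := by rw [hcb]; group
    have key : ∀ x y c c' : K, (∀ g, c * g = g * c) → (∀ g, c' * g = g * c') →
        ⁅x * c, y * c'⁆ = ⁅x, y⁆ := by
      intro x y c c' hc hc'
      calc ⁅x * c, y * c'⁆ = x * (c * (y * c' * c⁻¹)) * x⁻¹ * c'⁻¹ * y⁻¹ := by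
            rw [commutatorElement_def]; group
        _ = x * (y * c') * x⁻¹ * c'⁻¹ * y⁻¹ := by rw [hc]; group
        _ = x * y * (c' * x⁻¹) * c'⁻¹ * y⁻¹ := by group
        _ = _ := by rw [hc', commutatorElement_def]; group
    have e2 : ⁅a, b⁆ = ⁅t, t'⁆ := by
      conv_lhs => rw [ea, eb]
      exact key _ _ _ _ (e1 hta) (e1 htb)
    rw [e2]
    rw [commutatorElement_def]
    exact mul_mem (mul_mem (mul_mem ht ht') (inv_mem ht)) (inv_mem ht')
  exact CfsgLib.Recognition.Zassenhaus.Cover.equiv_sl25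
    { f := f, surj := hf, z := d, z_ne := hd1, z_sq := hd2, central := hcen d hfd, ker := hker',
      invol := hinvol, gen := hTtop }

variable {F : Type} [Field F] [Fintype F]

theorem center_sl2_char_two [CharP F 2] : Subgroup.center SL(2, F) = ⊥ := by
  refine (Subgroup.eq_bot_iff_forall _).2 fun z hz => ?_
  have e : (-1 : SL(2, F)) = 1 := Subtype.ext (by
    ext i j; fin_cases i <;> fin_cases j <;> simp [CharTwo.neg_eq])
  rcases CfsgLib.Classical.sl2_center_eq hz with rfl | rfl
  · rfl
  · exact e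

/-- Centres of extensions of `L₂(2ⁿ)`. -/
theorem center_eq_bot_of_psl2 [CharP F 2] {K : Type u} [Group K] [Finite K]
    (hperf : commutator K = ⊤) (h4 : Fintype.card F ≠ 4)
    (e : (K ⧸ Subgroup.center K) ≃* Matrix.ProjectiveSpecialLinearGroup (Fin 2) F) :
    Subgroup.center K = ⊥ := by
  classical
  have h9 : Fintype.card F ≠ 9 := by
    obtain ⟨k, -, hk⟩ := FiniteField.card F 2
    intro h
    rw [hk] at h
    have := Nat.even_pow.2 ⟨even_two, k.ne_zero⟩
    rw [h] at this
    exact absurd this (by decide)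
  have hbij : Function.Bijective (QuotientGroup.mk' (Subgroup.center SL(2, F))) := by
    refine ⟨(injective_iff_map_eq_one _).2 fun x hx => ?_, QuotientGroup.mk'_surjective _⟩
    have := (QuotientGroup.eq_one_iff x).1 hx
    rwa [center_sl2_char_two, Subgroup.mem_bot] at this
  let i : Matrix.ProjectiveSpecialLinearGroup (Fin 2) F ≃* SL(2, F) := (MulEquiv.ofBijective _ hbij).symm
  let σ : K →* SL(2, F) := (e.trans i).toMonoidHom.comp (QuotientGroup.mk' (Subgroup.center K))
  have hs : Function.Surjective σ := (e.trans i).surjective.comp (QuotientGroup.mk'_surjective _)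
  have hk : σ.ker = Subgroup.center K := by
    ext x
    rw [MonoidHom.mem_ker]
    show (e.trans i) (x : K ⧸ Subgroup.center K) = 1 ↔ _
    rw [EmbeddingLike.map_eq_one_iff, QuotientGroup.eq_one_iff]
  have h := CfsgLib.Schur.Basic.ker_inf_commutator_eq_bot
    (SLTwoMultiplier.multiplier_trivial h4 h9) σ hs hk.le
  rwa [hperf, inf_top_eq, hk] at h

theorem card_psl2_odd (hodd : Odd (Fintype.card F)) :
    2 * Nat.card (Matrix.ProjectiveSpecialLinearGroup (Fin 2) F) =
      Fintype.card F * ((Fintype.card F - 1) * (Fintype.card F + 1)) := by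
  classical
  have h2 : (2 : F) ≠ 0 := fun h2 => by
    haveI := CharTwo.of_one_ne_zero_of_two_eq_zero one_ne_zero h2
    obtain ⟨e, -, he⟩ := FiniteField.card F 2
    rw [he] at hodd
    exact Nat.not_even_iff_odd.2 hodd (Nat.even_pow.2 ⟨even_two, e.ne_zero⟩)
  rw [CfsgLib.Classical.Quat.two_mul_card_psl h2, CfsgLib.Classical.card_sl2']

/-- `L₂(4)` and `L₂(5)` are the alternating group of degree five. -/
theorem psl2_equiv_alt5 (h : Fintype.card F = 4 ∨ Fintype.card F = 5)
    [IsSimpleGroup (Matrix.ProjectiveSpecialLinearGroup (Fin 2) F)] :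
    Nonempty (Matrix.ProjectiveSpecialLinearGroup (Fin 2) F ≃* alternatingGroup (Fin 5)) := by
  rcases h with h | h
  · exact CfsgLib.Classical.Quat.psl2_four_equiv_alt h
  · have h60 := card_psl2_odd (F := F) (by rw [h]; decide)
    rw [h] at h60
    exact Cfsg.Agent.S0494.result (by omega)

/-- The centre is trivial unless the group is an exception. -/
theorem center_eq_bot_of_alt5 {K : Type u} [Group K] [Finite K] (hperf : commutator K = ⊤)
    (hZ : IsPGroup 2 ↥(Subgroup.center K)) (hex : ¬ Cfsg.IsCpException 2 K)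
    (e : (K ⧸ Subgroup.center K) ≃* alternatingGroup (Fin 5)) : Subgroup.center K = ⊥ := by
  by_contra hne
  haveI : Fact (Nat.Prime 5) := ⟨Nat.prime_five⟩
  obtain ⟨e'⟩ := equiv_sl25_of_alt5 hperf hZ hne (e.toMonoidHom.comp (QuotientGroup.mk' _))
    (e.surjective.comp (QuotientGroup.mk'_surjective _)) (by
      ext x
      rw [MonoidHom.mem_ker]
      show e (x : K ⧸ Subgroup.center K) = 1 ↔ _
      rw [EmbeddingLike.map_eq_one_iff, QuotientGroup.eq_one_iff])
  refine hex (Or.inl ⟨rfl, Or.inl ⟨ZMod 5, inferInstance, inferInstance, ?_, ⟨e'⟩⟩⟩)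
  rw [ZMod.card]
  exact Or.inl ⟨Nat.prime_five, Or.inl ⟨2, by norm_num, by norm_num⟩⟩

end CfsgLib.KGroups.AbelianTwo
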