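import Cfsg.Agent.Lib.KGroups.AbelianTwo.Basic
import Cfsg.Agent.Lib.KGroups.TwoRankThree.Exceptional
import Cfsg.Agent.Lib.KGroups.TwoRankThree.Tits
import Cfsg.Agent.Lib.Chevalley.PosProduct
import Mathlib.Algebra.Field.ZMod

/-!
# Exceptional groups in characteristic two do not have abelian Sylow 2-subgroups

Two noncommuting root elements lie in the 2-group of positive unipotent elements.
-/

set_option autoImplicit false
set_option maxRecDepth 20000
set_option linter.unusedSectionVars false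
set_option linter.style.haveILetI false

namespace CfsgLib.KGroups.AbelianTwo

open CfsgLib.Chevalley CfsgLib.Chevalley.Tbl

theorem pow_two_two {M : Type*} [Monoid M] (g : M) : g ^ 2 ^ 2 = g * g * (g * g) := by
  simp [pow_succ, mul_assoc]

variable {T : Tbl} {F : Type*} [Field F] [Fintype F] [CharP F 2] (hT : T.Valid) (hC : T.chkComm = true)

include hT hC in
theorem isPGroup_pos : IsPGroup 2 ↥(T.datum.posUnipotent F) := by
  haveI : Fact (Nat.Prime 2) := ⟨Nat.prime_two⟩
  obtain ⟨n, -, hn⟩ := FiniteField.card F 2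
  refine IsPGroup.of_card (n := (n : ℕ) * (T.datum.nroots / 2)) ?_
  rw [card_posUnipotent hT hC, hn, pow_mul]

include hT hC in
/-- Members of the positive unipotent group inside a group with abelian Sylow 2-subgroups commute. -/
theorem pos_commute (G : Subgroup (GL T.I F)) (h : AbTwo G) {x y : GL T.I F} (hx : x ∈ G) (hy : y ∈ G)
    (hx' : x ∈ T.datum.posUnipotent F) (hy' : y ∈ T.datum.posUnipotent F) : Commute x y := by
  have hp : IsPGroup 2 ↥((T.datum.posUnipotent F).subgroupOf G) :=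
    (isPGroup_pos hT hC).comap_of_injective G.subtype G.subtype_injective
  exact congrArg Subtype.val (h.commute_of_mem hp (a := (⟨x, hx⟩ : G)) (b := ⟨y, hy⟩) hx' hy').eq

include hT in
theorem xU_mem_pos {r : ℕ} (h : T.half ≤ r) (hr : r < T.n) (t : F) :
    T.xU F r t ∈ T.datum.posUnipotent F := by
  rw [posUnipotent_rootGen hT]
  exact xU_mem_rootGen (P := fun y => T.half ≤ y) hr h t

include hT hC in
theorem not_pair {r s k : ℕ} {c : ℤ} (hr : T.half ≤ r) (hs : r < s) (hn : s < T.n) (hk : k < T.n)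
    (hneg : s ≠ T.neg r) (he : T.commT r s = [(k, c, 1, 1)]) (hc : c = 1 ∨ c = -1)
    (G : Subgroup (GL T.I F)) (h : AbTwo G) (hrG : T.xU F r 1 ∈ G) (hsG : T.xU F s 1 ∈ G) : False := by
  have hcom := pos_commute hT hC G h hrG hsG (xU_mem_pos hT hr (by omega) 1) (xU_mem_pos hT (by omega) hn 1)
  have e := comm_xU (F := F) hT hC (by omega : r < T.n) hn (by omega) hneg 1 1
  rw [he, ← hcom.eq] at e
  simp only [List.map_cons, List.map_nil, List.prod_cons, List.prod_nil, mul_one, pow_one] at e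
  have e2 : T.xU F k ((c : F) * -1) = T.xU F k 0 := by
    rw [xU_zero hT hk]
    exact mul_eq_left.1 e.symm
  have := xU_inj hT hk e2
  rcases hc with rfl | rfl <;> simp at this

include hT hC in
theorem not_chev {r s k : ℕ} {c : ℤ}
    (hg : (Nat.ble T.half r && Nat.blt r s && Nat.blt s T.n && Nat.blt k T.n && (s != T.neg r) &&
      (T.commT r s == [(k, c, 1, 1)]) && (c == 1 || c == -1)) = true)
    (h : AbTwo ↥(T.datum.group F)) : False := by
  simp only [Bool.and_eq_true, Bool.or_eq_true, Nat.ble_eq, Nat.blt_eq, beq_iff_eq, bne_iff_ne] at hg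
  obtain ⟨⟨⟨⟨⟨⟨h1, h2⟩, h3⟩, h4⟩, h5⟩, h6⟩, h7⟩ := hg
  exact not_pair hT hC h1 h2 h3 h4 h5 h6 h7 _ h (xU_mem_group hT (by omega) 1) (xU_mem_group hT h3 1)

theorem not_chevG2 (h : AbTwo ↥(Cfsg.Lie.chevG2.group F)) : False := by
  rw [← Data.G2.datum_eq] at h
  exact not_chev Data.G2.valid Data.G2.chkComm (r := 6) (s := 10) (k := 11) (c := 1) (by decide +kernel) h

theorem not_chevF4 (h : AbTwo ↥(Cfsg.Lie.chevF4.group F)) : False := by
  rw [← Data.F4.datum_eq] at h
  exact not_chev Data.F4.valid Data.F4.chkComm (r := 24) (s := 25) (k := 26) (c := 1) (by decide +kernel) h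

theorem not_chevE6 (h : AbTwo ↥(Cfsg.Lie.chevE6.group F)) : False := by
  rw [← Data.E6.datum_eq] at h
  exact not_chev Data.E6.valid Data.E6.chkComm (r := 36) (s := 37) (k := 38) (c := 1) (by decide +kernel) h

theorem not_chevE7 (h : AbTwo ↥(Cfsg.Lie.chevE7.group F)) : False := by
  rw [← Data.E7.datum_eq] at h
  exact not_chev Data.E7.valid Data.E7.chkComm (r := 63) (s := 64) (k := 65) (c := 1) (by decide +kernel) h

theorem not_chevE8 (h : AbTwo ↥(Cfsg.Lie.chevE8.group F)) : False := by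
  rw [← Data.E8.datum_eq] at h
  exact not_chev Data.E8.valid Data.E8.chkComm (r := 120) (s := 121) (k := 122) (c := 1) (by decide +kernel) h

theorem not_twistedE6 {q : ℕ} (h : AbTwo ↥(Cfsg.Lie.twistedE6 F q)) : False := by
  have hlt : ∀ r ∈ [39, 46], r < Data.E6.tbl.n := by decide +kernel
  have hmem : ∀ r ∈ [39, 46], Data.E6.tbl.xU F r 1 ∈
      Data.E6.tbl.datum.genSubgroup F (Cfsg.Lie.e6Words F q) := by
    intro r hr
    have hw : [(r, (1 : F))] ∈ Cfsg.Lie.e6Words F q :=
      Or.inl ⟨1, one_pow q, r, by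
        simp only [List.mem_cons, List.not_mem_nil, or_false] at hr
        rcases hr with rfl | rfl <;> simp [Cfsg.Lie.e6p2, Cfsg.Lie.e6p4], rfl⟩
    have hm := TwoRankThree.word_mem (F := F) Data.E6.valid hw (fun p hp => by
      simp only [List.mem_singleton] at hp
      subst hp
      exact hlt r hr)
    simpa using hm
  rw [show Cfsg.Lie.twistedE6 F q = Cfsg.Lie.chevE6.genSubgroup F (Cfsg.Lie.e6Words F q) from rfl,
    ← Data.E6.datum_eq] at h
  exact not_pair Data.E6.valid Data.E6.chkComm (r := 39) (s := 46) (k := 47) (c := 1)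
    (by decide +kernel) (by norm_num) (by decide +kernel) (by decide +kernel) (by decide +kernel)
    (by decide +kernel) (Or.inl rfl) _ h (hmem 39 (by simp)) (hmem 46 (by simp))

theorem not_twistedD4 {q : ℕ} (h : AbTwo ↥(Cfsg.Lie.twistedD4 F q)) : False := by
  have hT := Data.D4.valid
  have hC := Data.D4.chkComm
  set X := fun r : ℕ => Data.D4.tbl.xU F r (1 : F) with hX
  have hn : ∀ r ∈ [12, 13, 14, 15, 16, 17, 18, 19], Data.D4.tbl.half ≤ r ∧ r < Data.D4.tbl.n := by
    decide +kernel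
  have hw1 : [(14, (1 : F))] ∈ Cfsg.Lie.d4Words F q :=
    Or.inl ⟨1, one_pow q, 14, by simp [Cfsg.Lie.d4p2], rfl⟩
  have hw2 : [(18, (1 : F)), (13, (1 : F) ^ q), (12, (1 : F) ^ (q ^ 2))] ∈ Cfsg.Lie.d4Words F q :=
    Or.inr ⟨1, (18, 13, 12), by simp [Cfsg.Lie.d4p1, Cfsg.Lie.d4p3, Cfsg.Lie.d4p4], rfl⟩
  have hm1 := TwoRankThree.word_mem (F := F) hT hw1 (fun p hp => by
    simp only [List.mem_singleton] at hp; subst hp; exact (hn 14 (by simp)).2)
  have hm2 := TwoRankThree.word_mem (F := F) hT hw2 (fun p hp => by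
    simp only [List.mem_cons, List.not_mem_nil, or_false] at hp
    rcases hp with rfl | rfl | rfl
    exacts [(hn 18 (by simp)).2, (hn 13 (by simp)).2, (hn 12 (by simp)).2])
  simp only [List.map_cons, List.map_nil, List.prod_cons, List.prod_nil, mul_one, one_pow] at hm1 hm2
  rw [show Cfsg.Lie.twistedD4 F q = Cfsg.Lie.chevD4.genSubgroup F (Cfsg.Lie.d4Words F q) from rfl,
    ← Data.D4.datum_eq] at h
  have hp : ∀ r ∈ [12, 13, 14, 15, 16, 17, 18, 19], X r ∈ Data.D4.tbl.datum.posUnipotent F :=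
    fun r hr => xU_mem_pos hT (hn r hr).1 (hn r hr).2 1
  have hcom := pos_commute hT hC _ h hm1 hm2 (hp 14 (by simp))
    (mul_mem (hp 18 (by simp)) (mul_mem (hp 13 (by simp)) (hp 12 (by simp))))
  have hc := TwoRankThree.tri_commute (F := F) hT hC (r := 12) (s := 13) (u := 18) (by decide +kernel) 1 1
  have hord : X 18 * (X 13 * X 12) = X 12 * X 13 * X 18 := by
    simp only [hX]
    rw [← hc.1.eq]
    exact (hc.2.1.mul_left hc.2.2).eq.symm
  change Commute (X 14) (X 18 * (X 13 * X 12)) at hcom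
  rw [hord] at hcom
  have one : ∀ {r s k : ℕ} {c : ℤ}, r < Data.D4.tbl.n → s < Data.D4.tbl.n → s ≠ r →
      s ≠ Data.D4.tbl.neg r → Data.D4.tbl.commT r s = [(k, c, 1, 1)] →
      (c = 1 ∨ c = -1) → X s * X r = X r * X s * X k := by
    intro r s k c hr hs hrs hneg he hc'
    simp only [hX]
    rw [comm_xU hT hC hr hs hrs hneg 1 1, he]
    rcases hc' with rfl | rfl <;> simp [CharTwo.neg_eq]
  have eA : X 18 * X 14 = X 14 * X 18 * X 19 := one (c := 1) (hn 14 (by simp)).2 (hn 18 (by simp)).2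
    (by norm_num) (by decide +kernel) (by decide +kernel) (Or.inl rfl)
  have eB : X 13 * X 14 = X 14 * X 13 * X 16 := one (c := -1) (hn 14 (by simp)).2 (hn 13 (by simp)).2
    (by norm_num) (by decide +kernel) (by decide +kernel) (Or.inr rfl)
  have eC : X 12 * X 14 = X 14 * X 12 * X 15 := one (c := -1) (hn 14 (by simp)).2 (hn 12 (by simp)).2
    (by norm_num) (by decide +kernel) (by decide +kernel) (Or.inr rfl)
  have eBC : X 15 * X 13 = X 13 * X 15 * X 17 := one (c := 1) (hn 13 (by simp)).2 (hn 15 (by simp)).2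
    (by norm_num) (by decide +kernel) (by decide +kernel) (Or.inl rfl)
  have e : X 14 * (X 12 * (X 13 * (X 15 * (X 17 * (X 16 * (X 18 * X 19)))))) =
      X 14 * (X 12 * (X 13 * X 18)) := by
    calc X 14 * (X 12 * (X 13 * (X 15 * (X 17 * (X 16 * (X 18 * X 19))))))
        = X 14 * X 12 * (X 13 * X 15 * X 17) * X 16 * X 18 * X 19 := by simp only [mul_assoc]
      _ = X 14 * X 12 * (X 15 * X 13) * X 16 * X 18 * X 19 := by rw [eBC]
      _ = X 14 * X 12 * X 15 * X 13 * X 16 * X 18 * X 19 := by simp only [mul_assoc]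
      _ = X 12 * (X 14 * X 13 * X 16) * X 18 * X 19 := by rw [← eC]; simp only [mul_assoc]
      _ = X 12 * X 13 * (X 14 * X 18 * X 19) := by rw [← eB]; simp only [mul_assoc]
      _ = X 12 * X 13 * X 18 * X 14 := by rw [← eA]; simp only [mul_assoc]
      _ = _ := by rw [← hcom.eq]; simp only [mul_assoc]
  have e' := mul_left_cancel (mul_left_cancel (mul_left_cancel e))
  have hg : ∀ r ∈ [16, 17, 18, 19], X r ∈ Data.D4.tbl.rootGen F (fun y => 15 + 1 ≤ y) := by
    intro r hr
    refine xU_mem_rootGen (P := fun y => 15 + 1 ≤ y) ?_ ?_ 1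
    · revert r; decide +kernel
    · revert r; decide +kernel
  have h15 := xU_mul_inj (F := F) hT hC (hn 15 (by simp)).1 (hn 15 (by simp)).2
    (t := 1) (t' := 0) (g' := X 18)
    (mul_mem (hg 17 (by simp)) (mul_mem (hg 16 (by simp)) (mul_mem (hg 18 (by simp)) (hg 19 (by simp)))))
    (hg 18 (by simp)) (by rw [xU_zero hT (hn 15 (by simp)).2, one_mul]; exact e')
  exact one_ne_zero h15.1

open CfsgLib.KnownB.SzElem CfsgLib.KnownB.Suzuki in
theorem not_suzuki {m : ℕ} (hm : 1 ≤ m) (hK : Fintype.card F = 2 ^ (2 * m + 1))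
    (h : AbTwo ↥(Cfsg.Lie.Sz F (2 ^ (m + 1)))) : False := by
  have he := twist_of_card hK
  obtain ⟨a, ha⟩ : ∃ a : F, a ^ 2 ^ (m + 1) + a ≠ 0 := by
    by_contra hall
    push Not at hall
    have hid : ∀ a : F, a * (a + 1) = 0 := fun a => by
      have e : a ^ 2 ^ (m + 1) = a := CharTwo.add_eq_zero.1 (hall a)
      have := he.pow_pow a
      rw [e, e] at this
      linear_combination -this + CharTwo.two_eq_zero (R := F) * a
    classical
    have hle : (Finset.univ : Finset F).card ≤ ({0, 1} : Finset F).card := by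
      refine Finset.card_le_card fun a _ => ?_
      rcases mul_eq_zero.1 (hid a) with rfl | h1
      · simp
      · simp [CharTwo.add_eq_zero.1 h1]
    rw [Finset.card_univ, hK] at hle
    have h8 : 8 ≤ 2 ^ (2 * m + 1) := le_trans (by norm_num) (Nat.pow_le_pow_right two_pos (show 3 ≤ 2 * m + 1 by omega))
    have := Finset.card_le_two (a := (0 : F)) (b := 1)
    omega
  have hx4 : ∀ c : F, P he c 0 ^ 2 ^ 2 = 1 := fun c => by
    rw [pow_two_two, P_mul, P_mul, ← P_zero he]
    congr 1 <;> simp [CharTwo.add_self_eq_zero, zero_pow (Nat.pos_iff_ne_zero.1 (Nat.two_pow_pos _))]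
  set z : F := a ^ 2 ^ (m + 1) + a
  have hc2 : P he 0 z ^ 2 ^ 1 = 1 := by
    rw [pow_one, sq, P_mul, ← P_zero he]
    congr 1 <;> simp [CharTwo.add_self_eq_zero, zero_pow (Nat.pos_iff_ne_zero.1 (Nat.two_pow_pos _))]
  have hcen : ∀ c d : F, Commute (P he 0 z) (P he c d) := fun c d => by
    show P he 0 z * P he c d = P he c d * P he 0 z
    rw [P_mul, P_mul]
    congr 1 <;> simp [zero_pow (Nat.pos_iff_ne_zero.1 (Nat.two_pow_pos _)), add_comm]
  have h1 : P he 0 z = 1 := h.commutator_eq_one (hx4 1) (hx4 a) hc2 (hcen 1 0) (hcen a 0) (by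
    rw [mul_inv_eq_iff_eq_mul, P_mul, P_mul, P_mul]
    congr 1
    · ring
    · simp only [z, zero_pow (Nat.pos_iff_ne_zero.1 (Nat.two_pow_pos (m + 1))), one_pow, zero_add, mul_one, add_zero]
      linear_combination (-a) * CharTwo.two_eq_zero (R := F))
  rw [← P_zero he] at h1
  exact ha (P_injective he h1).2

section Embed

open CfsgLib.Chevalley.Twist.F4

/-- Base change from the field with two elements. -/
noncomputable def baseHom : GL (Data.F4.tbl).I (ZMod 2) →* GL (Data.F4.tbl).I F :=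
  Matrix.GeneralLinearGroup.map (ZMod.castHom (dvd_refl 2) F)

theorem baseHom_injective : Function.Injective (baseHom (F := F)) := fun a b e =>
  Units.ext (Matrix.ext fun i j => (ZMod.castHom (dvd_refl 2) F).injective
    (congrArg (fun g : GL (Data.F4.tbl).I F => (g : Matrix (Data.F4.tbl).I (Data.F4.tbl).I F) i j) e))

theorem cast_pow_self (t : ZMod 2) {a : ℕ} (ha : a ≠ 0) : (t.cast : F) ^ a = (t.cast : F) := by
  obtain rfl | rfl : t = 0 ∨ t = 1 := by revert t; decide
  · simp [ha]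
  · simp

theorem zmod_pow_self (t : ZMod 2) {a : ℕ} (ha : a ≠ 0) : t ^ a = t := by
  obtain rfl | rfl : t = 0 ∨ t = 1 := by revert t; decide
  · simp [ha]
  · simp

theorem baseHom_mem {m : ℕ} {g : GL (Data.F4.tbl).I (ZMod 2)} (hg : g ∈ grp (ZMod 2) 0) :
    baseHom (F := F) g ∈ grp F m := by
  suffices hle : (grp (ZMod 2) 0).map (baseHom (F := F)) ≤ grp F m from hle ⟨g, hg, rfl⟩
  rw [grp, Cfsg.Lie.ChevalleyDatum.genSubgroup, MonoidHom.map_closure, Subgroup.closure_le]
  rintro _ ⟨g, ⟨w, hw, hgw⟩, rfl⟩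
  set φ := ZMod.castHom (dvd_refl 2) F
  have hlt : ∀ p ∈ w, p.1 < (Data.F4.tbl).n := by
    have hb : ∀ r ∈ [Cfsg.Lie.f4p1, Cfsg.Lie.f4p4, Cfsg.Lie.f4m1, Cfsg.Lie.f4m4, Cfsg.Lie.f4a, Cfsg.Lie.f4b,
        Cfsg.Lie.f4ab, Cfsg.Lie.f4aab, Cfsg.Lie.f4ma, Cfsg.Lie.f4mb, Cfsg.Lie.f4mab, Cfsg.Lie.f4maab],
        r < (Data.F4.tbl).n := by decide +kernel
    rcases hw with ⟨t, rfl | rfl⟩ | ⟨t, u, rfl | rfl⟩ <;> intro p hp <;>
      simp only [Cfsg.Lie.f4PairWord, Cfsg.Lie.b2ClassWord, List.mem_cons, List.not_mem_nil, or_false] at hp <;>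
      rcases hp with rfl | rfl | rfl | rfl <;> exact hb _ (by simp)
  refine Subgroup.subset_closure ⟨w.map (fun p => (p.1, φ p.2)), ?_, ?_⟩
  · have he : 2 ^ (m : ℕ) ≠ 0 := (Nat.two_pow_pos m).ne'
    have h1 : 2 ^ m + 1 ≠ 0 := Nat.succ_ne_zero _
    have h2 : 2 * 2 ^ m ≠ 0 := mul_ne_zero two_ne_zero he
    rcases hw with ⟨t, rfl | rfl⟩ | ⟨t, u, rfl | rfl⟩
    · exact Or.inl ⟨φ t, Or.inl (by simp [Cfsg.Lie.f4PairWord, φ, cast_pow_self t he])⟩
    · exact Or.inl ⟨φ t, Or.inr (by simp [Cfsg.Lie.f4PairWord, φ, cast_pow_self t he])⟩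
    · exact Or.inr ⟨φ t, φ u, Or.inl (by
        simp [Cfsg.Lie.b2ClassWord, φ, cast_pow_self t he, cast_pow_self t h1, cast_pow_self u h2,
          zmod_pow_self t two_ne_zero, zmod_pow_self u two_ne_zero])⟩
    · exact Or.inr ⟨φ t, φ u, Or.inr (by
        simp [Cfsg.Lie.b2ClassWord, φ, cast_pow_self t he, cast_pow_self t h1, cast_pow_self u h2,
          zmod_pow_self t two_ne_zero, zmod_pow_self u two_ne_zero])⟩
  · rw [wordMat_eq Data.F4.valid _ hlt] at hgw
    rw [wordMat_eq Data.F4.valid _ (fun p hp => by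
      obtain ⟨p, hp', rfl⟩ := List.mem_map.1 hp
      exact hlt p hp')]
    rw [Units.ext hgw, map_list_prod, List.map_map, List.map_map]
    congr 2
    refine List.map_congr_left fun p hp => Units.ext ?_
    simp only [Function.comp_apply, baseHom, Matrix.GeneralLinearGroup.map, Units.coe_map]
    rw [xU_val Data.F4.valid (hlt p hp), xU_val Data.F4.valid (hlt p hp)]
    exact map_X (ZMod 2) φ p.1 p.2

end Embed

section Tits

open CfsgLib.Chevalley.TitsGroup CfsgLib.Chevalley.Twist.F4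

/-- Two involutions whose product has order four, as words. -/
def witU : List (Fin 4) := [2, 2]
/-- The second one. -/
def witV : List (Fin 4) := [0, 2, 0, 0, 2, 0]

theorem cert_witness :
    wordC (witU ++ witU) = oneL ∧ wordC (witV ++ witV) = oneL ∧
      wordC (witU ++ witV ++ (witU ++ witV) ++ (witU ++ witV) ++ (witU ++ witV)) = oneL := by
  decide +kernel

theorem cert_witness_ne : ¬ wordC (witU ++ witV) = wordC (witV ++ witU) := by decide +kernel

theorem cert_witness_lt :
    (∀ c ∈ wordC (witU ++ witV), c < 2 ^ 52) ∧ ∀ c ∈ wordC (witV ++ witU), c < 2 ^ 52 := by decide +kernel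

open TwoRankThree.Tits in
theorem wT_one {w : List (Fin 4)} (h : wordC w = oneL) : wT w = 1 := by
  have h0 : wordC w = wordC [] := by rw [h, wordC]
  rw [wT_eq h0, wT_nil]

open TwoRankThree.Tits in
theorem witU_mem : wT witU ∈ commutator TG := by
  have e : wT witU = wT [2] * wT [2] := wT_append [2] [2]
  exact e ▸ Subgroup.mul_self_mem_of_index_two (index_commutator crit) _

open TwoRankThree.Tits in
theorem witV_mem : wT witV ∈ commutator TG := by
  have e : wT witV = wT [0, 2, 0] * wT [0, 2, 0] := wT_append [0, 2, 0] [0, 2, 0]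
  exact e ▸ Subgroup.mul_self_mem_of_index_two (index_commutator crit) _

open TwoRankThree.Tits in
theorem wit_ne : wT witU * wT witV ≠ wT witV * wT witU := by
  intro e
  rw [← wT_append, ← wT_append] at e
  have h' := congrArg (fun g : TG => ((g : GL I4 (ZMod 2)) : Matrix I4 I4 (ZMod 2))) e
  simp only [coe_wT, wordG_val] at h'
  exact cert_witness_ne (mat_inj (wordC_len _) (wordC_len _) cert_witness_lt.1 cert_witness_lt.2 h')

open TwoRankThree.Tits in
theorem wit_rel :
    wT witU * wT witU = 1 ∧ wT witV * wT witV = 1 ∧ (wT witU * wT witV) ^ (4 : ℕ) = 1 := by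
  obtain ⟨c1, c2, c3⟩ := cert_witness
  refine ⟨by rw [← wT_append, wT_one c1], by rw [← wT_append, wT_one c2], ?_⟩
  rw [show (wT witU * wT witV) ^ (4 : ℕ) = (wT witU * wT witV) * (wT witU * wT witV) *
    (wT witU * wT witV) * (wT witU * wT witV) by simp only [pow_succ, pow_zero, one_mul]]
  simp only [← wT_append]
  exact wT_one c3

theorem not_index_two {G : Type*} [Group G] (C : Subgroup G) (h : AbTwo ↥C) {u v : G} (hu : u ∈ C)
    (hv : v ∈ C) (h1 : u * u = 1) (h2 : v * v = 1) (h3 : (u * v) ^ 4 = 1) (hne : u * v ≠ v * u) : False :=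
  hne (congrArg Subtype.val
    (h.commute_four (u := (⟨u, hu⟩ : C)) (v := ⟨v, hv⟩) (Subtype.ext h1) (Subtype.ext h2) (Subtype.ext h3)).eq)

theorem not_commutator (h : AbTwo ↥(commutator TG)) : False :=
  not_index_two (commutator TG) h witU_mem witV_mem wit_rel.1 wit_rel.2.1 wit_rel.2.2 wit_ne

theorem not_tits (h : AbTwo Cfsg.Lie.TitsGroup) : False :=
  transfer hK2 (fun _ G => AbTwo ↥(commutator ↥G) → False) not_commutator (by simpa using h)

theorem not_twistedF4 {m : ℕ} (h : AbTwo ↥(Cfsg.Lie.twistedF4 F (2 ^ m))) : False := by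
  have h' : AbTwo ↥(grp F m) := by
    have key : ∀ D : Cfsg.Lie.ChevalleyDatum, D = Cfsg.Lie.chevF4 →
        AbTwo ↥(D.genSubgroup F (Cfsg.Lie.f4Words F (2 ^ m))) := by rintro D rfl; exact h
    exact key _ Data.F4.datum_eq
  have hle : ∀ x : TG, baseHom (F := F) (x : GL I4 (ZMod 2)) ∈ grp F m := fun x =>
    baseHom_mem (le_of_eq (grp_eq_fix hK2).symm x.2)
  exact not_commutator ((h'.of_injective
    (((baseHom (F := F)).comp (S hK2).fix.subtype).codRestrict (grp F m) hle)
    (fun a b e => Subtype.ext (baseHom_injective (congrArg Subtype.val e :)))).subgroup _)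

end Tits

end CfsgLib.KGroups.AbelianTwo
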